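import Cfsg.Agent.Lib.J2.Chain
import Mathlib.GroupTheory.Index
import Mathlib.GroupTheory.GroupAction.Quotient
import Mathlib.Data.Nat.Bitwise

/-! Certified orbit labels, and maximality of point stabilisers from the sums of suborbit lengths. -/

set_option autoImplicit false

namespace Cfsg.Agent.G24J2

open Cfsg.Agent.PermCert

variable {w n : ℕ}

/-- The label of a point. -/
def labOf (code x : ℕ) : ℕ := get 4 code x

/-- The number of arguments below a bound passing a test. -/
def cnt (f : ℕ → Bool) (k : ℕ) : ℕ :=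
  Nat.rec 0 (fun i acc => bif f i then acc + 1 else acc) k

theorem cnt_eq_card (f : ℕ → Bool) : ∀ k, cnt f k = ((Finset.range k).filter fun i => f i = true).card
  | 0 => rfl
  | k + 1 => by
    rw [show cnt f (k + 1) = bif f k then cnt f k + 1 else cnt f k from rfl, cnt_eq_card f k,
      Finset.range_add_one, Finset.filter_insert]
    cases h : f k <;> simp

theorem cnt_eq_ncard (f : ℕ → Bool) : cnt f n = {x : Fin n | f x = true}.ncard := by
  rw [cnt_eq_card, ← Set.ncard_coe_finset, ← Set.ncard_image_of_injective _ Fin.val_injective]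
  congr 1
  ext i
  simp only [Finset.coe_filter, Finset.mem_range, Set.mem_ofPred_eq, Set.mem_image]
  exact ⟨fun ⟨hi, hf⟩ => ⟨⟨i, hi⟩, hf, rfl⟩, fun ⟨x, hf, e⟩ => e ▸ ⟨x.2, hf⟩⟩

/-- The generators keep the labels, and every labelled point is reached from the root of its label. -/
def orbOK (w n : ℕ) (gens : List Elt) (roots : List ℕ) (tree : List (ℕ × ℕ × ℕ)) (lab : ℕ) : Bool :=
  J2.treeOK w gens roots tree &&
    (gens.all fun g => validElt w n g &&
      allBelow (fun x => Nat.beq (labOf lab (get w g.1 x)) (labOf lab x)) n) &&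
    allBelow (fun k => Nat.blt (roots.getD k 0) n && Nat.beq (labOf lab (roots.getD k 0)) k)
      roots.length &&
    allBelow (fun x => Nat.ble roots.length (labOf lab x) ||
      (roots ++ tree.map fun t => t.1).any fun y => Nat.beq x y) n

variable {gens : List Elt} {roots : List ℕ} {tree : List (ℕ × ℕ × ℕ)} {lab : ℕ}

theorem orbOK_valid (h : orbOK w n gens roots tree lab = true) {g : Elt} (hg : g ∈ gens) :
    validElt w n g = true ∧
      ∀ x : Fin n, labOf lab (toPerm w n g x : ℕ) = labOf lab x := by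
  simp only [orbOK, Bool.and_eq_true, List.all_eq_true] at h
  obtain ⟨hv, hl⟩ := h.1.1.2 g hg
  refine ⟨hv, fun x => ?_⟩
  rw [← ((rep_toPerm hv) x).1]
  exact Nat.eq_of_beq_eq_true (allBelow_spec _ _ hl x x.2)

theorem root_spec (h : orbOK w n gens roots tree lab = true) {k : ℕ} (hk : k < roots.length) :
    roots.getD k 0 < n ∧ labOf lab (roots.getD k 0) = k := by
  simp only [orbOK, Bool.and_eq_true] at h
  have := allBelow_spec _ _ h.1.2 k hk
  simp only [Bool.and_eq_true, Nat.blt_eq, Nat.beq_eq] at this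
  exact this

theorem lab_inv (h : orbOK w n gens roots tree lab = true) {σ : Equiv.Perm (Fin n)}
    (hσ : σ ∈ genGroup w n gens) : ∀ x : Fin n, labOf lab (σ x : ℕ) = labOf lab x := by
  induction hσ using Subgroup.closure_induction with
  | mem τ hτ =>
    obtain ⟨g, hg, rfl⟩ := List.mem_map.1 hτ
    exact (orbOK_valid h hg).2
  | one => exact fun x => rfl
  | mul p q _ _ hp hq => intro x; rw [Equiv.Perm.mul_apply, hp, hq]
  | inv p _ hp =>
    intro x
    conv_rhs => rw [← p.apply_symm_apply x]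
    rw [hp]
    rfl

theorem exists_from_root (h : orbOK w n gens roots tree lab = true) (x r : Fin n)
    (hx : labOf lab x < roots.length) (hr : (r : ℕ) = roots.getD (labOf lab x) 0) :
    ∃ σ ∈ genGroup w n gens, σ r = x := by
  have h0 := h
  simp only [orbOK, Bool.and_eq_true] at h0
  have hall := allBelow_spec _ _ h0.2 x x.2
  simp only [Bool.or_eq_true, Nat.ble_eq, List.any_eq_true, Nat.beq_eq] at hall
  obtain ⟨y, hy, hxy⟩ := hall.resolve_left (by omega)
  have key : ∀ z ∈ roots ++ tree.map (fun t => t.1), ∃ hz : z < n, ∀ s : Fin n,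
      (s : ℕ) = roots.getD (labOf lab z) 0 → ∃ σ ∈ genGroup w n gens, σ s = ⟨z, hz⟩ := by
    refine J2.tree_induction h0.1.1.1 (fun z hz => ?_) (fun g hg z ⟨hz, hs⟩ => ?_)
    · obtain ⟨k, hk, rfl⟩ := List.getElem_of_mem hz
      obtain ⟨hlt, hlab⟩ := root_spec h hk
      rw [List.getD_eq_getElem _ _ hk] at hlt hlab
      refine ⟨hlt, fun s hs => ⟨1, one_mem _, Fin.ext ?_⟩⟩
      rw [hlab, List.getD_eq_getElem _ _ hk] at hs
      exact hs
    · obtain ⟨hv, hl⟩ := orbOK_valid h hg
      have e : get w g.1 z = (toPerm w n g ⟨z, hz⟩ : ℕ) := ((rep_toPerm hv) ⟨z, hz⟩).1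
      refine ⟨e ▸ Fin.is_lt _, fun s hs' => ?_⟩
      rw [e, hl] at hs'
      obtain ⟨σ, hσ, hσs⟩ := hs s hs'
      refine ⟨toPerm w n g * σ, mul_mem (Subgroup.subset_closure (List.mem_map.2 ⟨g, hg, rfl⟩)) hσ,
        Fin.ext ?_⟩
      rw [Equiv.Perm.mul_apply, hσs]
      exact e.symm
  obtain ⟨hz, hs⟩ := key y hy
  obtain ⟨σ, hσ, hσs⟩ := hs r (by rw [← hxy]; exact hr)
  exact ⟨σ, hσ, hσs.trans (Fin.ext hxy.symm)⟩

theorem orbit_iff (h : orbOK w n gens roots tree lab = true) (y x : Fin n)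
    (hy : labOf lab y < roots.length) :
    (∃ σ ∈ genGroup w n gens, σ y = x) ↔ labOf lab x = labOf lab y := by
  refine ⟨fun ⟨σ, hσ, e⟩ => e ▸ lab_inv h hσ y, fun e => ?_⟩
  let r : Fin n := ⟨roots.getD (labOf lab y) 0, (root_spec h hy).1⟩
  obtain ⟨a, ha, hay⟩ := exists_from_root h y r hy rfl
  obtain ⟨b, hb, hbx⟩ := exists_from_root h x r (e ▸ hy) (by rw [e])
  refine ⟨b * a⁻¹, mul_mem hb (inv_mem ha), ?_⟩
  rw [Equiv.Perm.mul_apply, ← hay, Equiv.Perm.inv_def, Equiv.symm_apply_apply, hbx]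

/-- The sums of suborbit lengths which contain the point are trivial or do not divide the whole. -/
def subOK (n m lab : ℕ) : Bool :=
  let N := cnt (fun x => Nat.blt (labOf lab x) m) n
  Nat.blt 1 N && allBelow (fun M => !Nat.testBit M 0 ||
    (let c := cnt (fun x => Nat.blt (labOf lab x) m && Nat.testBit M (labOf lab x)) n
     Nat.beq c 1 || Nat.beq c N || !Nat.beq (N % c) 0)) (2 ^ m)

theorem index_stab {K : Type*} [Group K] (ψ : K →* Equiv.Perm (Fin n)) (y : Fin n) :
    ((MulAction.stabilizer (Equiv.Perm (Fin n)) y).comap ψ).index = {x | ∃ k, ψ k y = x}.ncard := by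
  let := MulAction.compHom (Fin n) ψ
  have e : (MulAction.stabilizer (Equiv.Perm (Fin n)) y).comap ψ = MulAction.stabilizer K y := rfl
  rw [e, MulAction.index_stabilizer]
  rfl

/-- **A stabiliser is maximal when no sum of suborbit lengths can be a block.** -/
theorem isCoatom_stab {G : Type*} [Group G] [Finite G] (φ : G →* Equiv.Perm (Fin n)) (y : Fin n)
    (h : orbOK w n gens roots tree lab = true) (hlen : 0 < roots.length)
    (hy : (y : ℕ) = roots.getD 0 0)
    (hgens : ∀ e ∈ gens, ∃ g, φ g = toPerm w n e ∧ φ g y = y)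
    (hO : ∀ x : Fin n, (∃ g, φ g y = x) ↔ labOf lab x < roots.length)
    (hs : subOK n roots.length lab = true) :
    IsCoatom ((MulAction.stabilizer (Equiv.Perm (Fin n)) y).comap φ) := by
  classical
  set S := (MulAction.stabilizer (Equiv.Perm (Fin n)) y).comap φ with hS
  set m := roots.length
  simp only [subOK, Bool.and_eq_true, Nat.blt_eq] at hs
  obtain ⟨hN1, hsub⟩ := hs
  have hidx : S.index = cnt (fun x => Nat.blt (labOf lab x) m) n := by
    rw [index_stab, cnt_eq_ncard]
    congr 1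
    ext x
    simp only [Set.mem_ofPred_eq, Nat.blt_eq]
    exact hO x
  have hgen : genGroup w n gens ≤ S.map φ := (Subgroup.closure_le _).2 fun σ hσ => by
    obtain ⟨e, he, rfl⟩ := List.mem_map.1 hσ
    obtain ⟨g, hg, hgy⟩ := hgens e he
    exact ⟨g, hgy, hg⟩
  refine ⟨fun e => ?_, fun K hK => ?_⟩
  · rw [e, Subgroup.index_top] at hidx
    omega
  · let O : Set (Fin n) := {x | ∃ g ∈ K, φ g y = x}
    let M : ℕ := Nat.ofBits fun k : Fin m =>
      decide ((⟨roots.getD k 0, (root_spec h k.2).1⟩ : Fin n) ∈ O)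
    have hM : ∀ k (hk : k < m), (M.testBit k = true ↔ (⟨roots.getD k 0, (root_spec h hk).1⟩ : Fin n) ∈ O) :=
      fun k hk => by rw [Nat.testBit_ofBits_lt _ _ hk, decide_eq_true_eq]
    have hinv : ∀ σ ∈ genGroup w n gens, ∀ x ∈ O, σ x ∈ O := fun σ hσ x ⟨g, hg, hgx⟩ => by
      obtain ⟨s, hs, rfl⟩ := hgen hσ
      exact ⟨s * g, mul_mem (hK.le hs) hg, by rw [map_mul, Equiv.Perm.mul_apply, hgx]⟩
    have hOeq : O = {x : Fin n |
        (Nat.blt (labOf lab x) m && M.testBit (labOf lab x)) = true} := by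
      ext x
      simp only [Set.mem_ofPred_eq, Bool.and_eq_true, Nat.blt_eq]
      constructor
      · intro hx
        have hl : labOf lab x < m := (hO x).1 (let ⟨g, _, hg⟩ := hx; ⟨g, hg⟩)
        refine ⟨hl, (hM _ hl).2 ?_⟩
        obtain ⟨σ, hσ, hσx⟩ := exists_from_root h x ⟨_, (root_spec h hl).1⟩ hl rfl
        have := hinv _ (inv_mem hσ) x hx
        rwa [← hσx, Equiv.Perm.inv_def, Equiv.symm_apply_apply] at this
      · rintro ⟨hl, hb⟩
        obtain ⟨σ, hσ, hσx⟩ := exists_from_root h x ⟨_, (root_spec h hl).1⟩ hl rfl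
        exact hσx ▸ hinv σ hσ _ ((hM _ hl).1 hb)
    have hcard : O.ncard = S.relIndex K := by
      rw [Subgroup.relIndex, show S.subgroupOf K =
        (MulAction.stabilizer (Equiv.Perm (Fin n)) y).comap (φ.comp K.subtype) from
          Subgroup.comap_comap _ φ K.subtype, index_stab]
      congr 1
      ext x
      exact ⟨fun ⟨g, hg, e⟩ => ⟨⟨g, hg⟩, e⟩, fun ⟨k, e⟩ => ⟨k, k.2, e⟩⟩
    have hmul := Subgroup.relIndex_mul_index hK.le
    rw [← hcard, hidx] at hmul
    have hM0 : M.testBit 0 = true :=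
      (hM 0 hlen).2 ⟨1, one_mem _, by rw [map_one]; exact Fin.ext hy⟩
    have hc := allBelow_spec _ _ hsub M (Nat.ofBits_lt_two_pow _)
    simp only [hM0, Bool.not_true, Bool.false_or, Bool.or_eq_true, Nat.beq_eq, Bool.not_eq_true',
      Bool.eq_false_iff, ne_eq] at hc
    rw [cnt_eq_ncard (fun x => Nat.blt (labOf lab x) m && M.testBit (labOf lab x)), ← hOeq] at hc
    rcases hc with (h1 | h1) | h1
    · exfalso
      rw [hcard, Subgroup.relIndex_eq_one] at h1
      exact hK.not_ge h1
    · rw [h1] at hmul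
      exact Subgroup.index_eq_one.1
        (Nat.eq_of_mul_eq_mul_left (show 0 < cnt (fun x => Nat.blt (labOf lab x) m) n by omega)
          (hmul.trans (mul_one _).symm))
    · exact absurd (Nat.mod_eq_zero_of_dvd ⟨_, hmul.symm⟩) h1

end Cfsg.Agent.G24J2
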