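import Cfsg.Agent.Lib.G24J2.Rel

/-! Kernel checks on the points and the generators. -/

set_option autoImplicit false
set_option maxRecDepth 20000
set_option Elab.async false

namespace Cfsg.Agent.G24J2

open Cfsg.Agent.PermCert

theorem pts_ok : all1365 ptsTest = true := by decide +kernel

theorem anti_ok : antiTest g24Masks = true := by decide +kernel

theorem masks_length : g24Masks.length = 416 := by decide +kernel

theorem words_ok : G24.evC g24Word0 = g24Mat0 ∧ G24.evC g24Word1 = g24Mat1 ∧
    G24.trC g24Mat0 = g24MatT0 ∧ G24.trC g24Mat1 = g24MatT1 ∧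
    (∀ p ∈ g24Word0, p.2 < 4) ∧ (∀ p ∈ g24Word1, p.2 < 4) := by decide +kernel

theorem pt0_ok : all1365 (ptTest g24MatT0 g24PtPerm0) = true := by decide +kernel

theorem pt1_ok : all1365 (ptTest g24MatT1 g24PtPerm1) = true := by decide +kernel

end Cfsg.Agent.G24J2
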