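import Cfsg.Agent.Lib.G24J2.Rel

/-! Kernel check that generator 0 permutes the sets. -/

set_option autoImplicit false
set_option maxRecDepth 20000
set_option Elab.async false

namespace Cfsg.Agent.G24J2

open Cfsg.Agent.PermCert

theorem sets0_ok : setsTest g24PtPerm0 (g24Gens.getD 0 (0, 0)).1 g24Masks 0 = true := by
  decide +kernel

end Cfsg.Agent.G24J2
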