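import Cfsg.Agent.Lib.G24J2.Orbits
import Cfsg.Agent.Lib.G24J2.Data
import Cfsg.Agent.Lib.G24J2.OrbData
import Cfsg.Agent.Lib.J2.CertData

/-! Kernel checks on the suborbits. -/

set_option autoImplicit false
set_option maxRecDepth 20000
set_option Elab.async false

namespace Cfsg.Agent.G24J2

open Cfsg.Agent.PermCert

/-- The generators of the point stabiliser. -/
def stabGens : List Elt := g24Level1.2.1

theorem orbG_ok : orbOK 9 416 g24Gens orbGRoots orbGTree orbGLab = true := by decide +kernel

theorem orbH_ok : orbOK 9 416 stabGens orbHRoots orbHTree orbHLab = true := by decide +kernel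

theorem orbA_ok : orbOK 9 416 orbAGens orbARoots orbATree orbALab = true := by decide +kernel

theorem orbB_ok : orbOK 9 416 orbBGens orbBRoots orbBTree orbBLab = true := by decide +kernel

theorem subH_ok : subOK 416 orbHRoots.length orbHLab = true := by decide +kernel

theorem subA_ok : subOK 416 orbARoots.length orbALab = true := by decide +kernel

theorem subB_ok : subOK 416 orbBRoots.length orbBLab = true := by decide +kernel

theorem stabGens_fix : (stabGens.all fun e => Nat.beq (get 9 e.1 0) 0) = true := by decide +kernel

theorem roots_ok : orbGRoots = [0] ∧ orbHRoots.length = 3 ∧ orbHRoots.getD 0 0 = 0 ∧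
    orbHRoots.getD 1 0 = orbARoots.getD 0 0 ∧ orbHRoots.getD 2 0 = orbBRoots.getD 0 0 ∧
    0 < orbARoots.length ∧ 0 < orbBRoots.length := by decide +kernel

theorem labs_ok : allBelow (fun x =>
    Nat.beq (labOf orbGLab x) 0 && Nat.blt (labOf orbHLab x) 3 &&
      (!Nat.beq (labOf orbHLab x) 0 || Nat.beq x 0)) 416 = true := by
  decide +kernel

theorem labsA_ok : allBelow (fun x =>
    Nat.blt (labOf orbALab x) orbARoots.length == Nat.beq (labOf orbHLab x) 1) 416 = true := by
  decide +kernel

theorem labsB_ok : allBelow (fun x =>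
    Nat.blt (labOf orbBLab x) orbBRoots.length == Nat.beq (labOf orbHLab x) 2) 416 = true := by
  decide +kernel

/-- The test of an element of a two-point stabiliser. -/
def twoTest (y : ℕ) (e : Elt) : Bool :=
  validElt 9 416 e && sift 9 416 g24Levels e.1 && Nat.beq (get 9 e.1 0) 0 && Nat.beq (get 9 e.1 y) y

theorem twoA_ok : (orbAGens.all (twoTest (orbARoots.getD 0 0))) = true := by decide +kernel

theorem twoB_ok : (orbBGens.all (twoTest (orbBRoots.getD 0 0))) = true := by decide +kernel

/-- The test of a lifted generator of J₂. -/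
def liftTest (k : ℕ) : Bool :=
  let e := lifts.getD k (0, 0)
  validElt 9 416 e && sift 9 416 g24Levels e.1 && Nat.beq (get 9 e.1 0) 0 &&
    allBelow (fun i => Nat.beq (get 9 e.1 (get 9 shortPts i))
      (get 9 shortPts (get 7 (J2.j2Gens.getD k (0, 0)).1 i))) 100

theorem lifts_ok : allBelow liftTest J2.j2Gens.length = true := by decide +kernel

theorem shortPts_ok : allBelow (fun i => Nat.blt (get 9 shortPts i) 416 &&
    allBelow (fun j => Nat.beq i j || !Nat.beq (get 9 shortPts i) (get 9 shortPts j)) 100) 100 = true := by
  decide +kernel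

end Cfsg.Agent.G24J2
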