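import Cfsg.Agent.Lib.G24J2.Model
import Cfsg.Agent.Lib.G24J2.OrbCert
import Cfsg.Agent.Lib.J2.Group

/-! G₂(4) on the cosets of J₂ is extremely primitive. -/

set_option autoImplicit false
set_option maxRecDepth 20000

namespace Cfsg.Agent.G24J2

open Cfsg.Agent.PermCert

attribute [local irreducible] g24Gens g24Derived g24Levels stabGens orbAGens orbBGens lifts shortPts
  orbGLab orbHLab orbALab orbBLab orbGTree orbHTree orbATree orbBTree

theorem mem_genGroup_toPerm {w n : ℕ} {gens : List Elt} {e : Elt} (he : e ∈ gens) :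
    toPerm w n e ∈ genGroup w n gens := Subgroup.subset_closure (List.mem_map.2 ⟨e, he, rfl⟩)

theorem toPerm_apply {w n : ℕ} {e : Elt} (hv : validElt w n e = true) {x y : Fin n}
    (h : get w e.1 x = (y : ℕ)) : toPerm w n e x = y :=
  Fin.ext ((rep_toPerm hv x).1.symm.trans h)

theorem levels_cons : ∃ (S : List Elt) (T : List (ℕ × Elt × ℕ × ℕ)) (L : List CLevel),
    g24Levels = (0, S, T) :: L ∧ topCodes L = stabGens :=
  ⟨g24Level0.2.1, g24Level0.2.2, g24Levels.tail, by unfold g24Levels; rfl,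
    by unfold g24Levels stabGens; rfl⟩

/-- The generators of the second level generate the point stabiliser. -/
theorem stab_eq (σ : Equiv.Perm (Fin 416)) (hσ : σ ∈ genGroup 9 416 g24Gens) (h0 : σ 0 = 0) :
    σ ∈ genGroup 9 416 stabGens := by
  have hall := J2.cert_allRep g24_cert
  have hmem := (J2.cert_prodSet g24_cert σ).1 hσ
  obtain ⟨hg, -⟩ := cert_good g24_cert
  obtain ⟨S, T, L, hc, htop⟩ := levels_cons
  rw [hc] at hall hmem hg
  have hm := J2.mem_tail hg hmem h0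
  rw [prodSet_eq _ hg.1, topGens_interp, htop] at hm
  refine (Submonoid.closure_le (S := (genGroup 9 416 stabGens).toSubmonoid)).2 (fun τ hτ => ?_) hm
  obtain ⟨s, hs, rfl⟩ := List.mem_map.1 hτ
  have hv := (orbOK_valid orbH_ok hs).1
  rw [epsilon_rep (rep_toPerm hv)]
  exact mem_genGroup_toPerm hs

theorem stabGens_sub {e : Elt} (he : e ∈ stabGens) :
    toPerm 9 416 e ∈ genGroup 9 416 g24Gens ∧ toPerm 9 416 e 0 = 0 := by
  have hv := (orbOK_valid orbH_ok he).1
  obtain ⟨S, T, L, hc, htop⟩ := levels_cons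
  obtain ⟨hg, -⟩ := cert_good g24_cert
  refine ⟨(J2.cert_prodSet g24_cert _).2 ?_,
    toPerm_apply hv (Nat.eq_of_beq_eq_true (List.all_eq_true.1 stabGens_fix e he))⟩
  rw [hc] at hg ⊢
  refine J2.tail_sub hg ?_
  rw [prodSet_eq _ hg.1, topGens_interp, htop]
  refine Submonoid.subset_closure (List.mem_map.2 ⟨e, he, ?_⟩)
  exact epsilon_rep (rep_toPerm hv)

theorem two_spec {y : ℕ} {e : Elt} (h : twoTest y e = true) {p : Fin 416} (hp : (p : ℕ) = y) :
    validElt 9 416 e = true ∧ toPerm 9 416 e ∈ genGroup 9 416 g24Gens ∧ toPerm 9 416 e 0 = 0 ∧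
      toPerm 9 416 e p = p := by
  simp only [twoTest, Bool.and_eq_true, Nat.beq_eq] at h
  obtain ⟨⟨⟨hv, hs⟩, h0⟩, hy⟩ := h
  exact ⟨hv, cert_mem g24_cert hv hs, toPerm_apply hv h0, toPerm_apply hv (hp ▸ hy)⟩

theorem isCoatom_comap_conj {H : Type*} [Group H] {n : ℕ} (ψ : H →* Equiv.Perm (Fin n))
    {y : Fin n} (h : H) (hy : IsCoatom ((MulAction.stabilizer (Equiv.Perm (Fin n)) y).comap ψ)) :
    IsCoatom ((MulAction.stabilizer (Equiv.Perm (Fin n)) (ψ h y)).comap ψ) := by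
  have hm := (OrderIso.isCoatom_iff (MulAut.conj h).mapSubgroup
    ((MulAction.stabilizer (Equiv.Perm (Fin n)) y).comap ψ)).2 hy
  convert hm using 1
  ext k
  simp only [MulEquiv.mapSubgroup_apply, Subgroup.mem_map, MonoidHom.coe_coe, Subgroup.mem_comap,
    MulAction.mem_stabilizer_iff, Equiv.Perm.smul_def]
  constructor
  · intro hk
    refine ⟨h⁻¹ * k * h, ?_, ?_⟩
    · rw [map_mul, map_mul, map_inv, Equiv.Perm.mul_apply, Equiv.Perm.mul_apply, hk, Equiv.Perm.inv_def,
        Equiv.symm_apply_apply]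
    · rw [MulAut.conj_apply]; group
  · rintro ⟨m, hm, rfl⟩
    rw [MulAut.conj_apply, map_mul, map_mul, map_inv, Equiv.Perm.mul_apply, Equiv.Perm.mul_apply,
      Equiv.Perm.inv_def, Equiv.symm_apply_apply, hm]

/-- A point of the short suborbit. -/
def shortPt (i : Fin 100) : Fin 416 :=
  ⟨get 9 shortPts i, by
    have := allBelow_spec _ _ shortPts_ok i i.2
    simp only [Bool.and_eq_true, Nat.blt_eq] at this
    exact this.1⟩

theorem shortPt_inj : Function.Injective shortPt := fun i j e => by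
  have h := allBelow_spec _ _ shortPts_ok i i.2
  simp only [Bool.and_eq_true] at h
  have h2 := allBelow_spec _ _ h.2 j j.2
  simp only [Bool.or_eq_true, Nat.beq_eq, Bool.not_eq_true', Bool.eq_false_iff, ne_eq] at h2
  exact Fin.ext (h2.resolve_right fun hne => hne (congrArg Fin.val e))

/-- **Extreme primitivity**, for any copy of the coded group. -/
theorem main {G : Type*} [Group G] (eq : G ≃* genGroup 9 416 g24Gens) :
    ∃ H : Subgroup G, IsCoatom H ∧ Spor.IsoJ2 H ∧
      ∀ x : G, x ∉ H → IsCoatom ((H ⊓ H.map (MulAut.conj x).toMonoidHom).subgroupOf H) := by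
  classical
  have : Finite G := Finite.of_equiv _ eq.symm.toEquiv
  obtain ⟨φ, hφ⟩ : ∃ φ : G →* Equiv.Perm (Fin 416), ∀ g, φ g = (eq g : Equiv.Perm (Fin 416)) :=
    ⟨(genGroup 9 416 g24Gens).subtype.comp eq.toMonoidHom, fun g => rfl⟩
  have hmem : ∀ g, φ g ∈ genGroup 9 416 g24Gens := fun g => hφ g ▸ (eq g).2
  have hsur : ∀ σ ∈ genGroup 9 416 g24Gens, ∃ g, φ g = σ := fun σ hσ =>
    ⟨eq.symm ⟨σ, hσ⟩, by rw [hφ, MulEquiv.apply_symm_apply]⟩
  obtain ⟨hGr, hHlen, hH0, hH1, hH2, hAlen, hBlen⟩ := roots_ok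
  have hlabs : ∀ x : Fin 416, _ := fun x => allBelow_spec _ _ labs_ok x x.2
  simp only [Bool.and_eq_true, Nat.beq_eq, Nat.blt_eq, Bool.or_eq_true, Bool.not_eq_true',
    Bool.eq_false_iff, ne_eq] at hlabs
  have hG0 : ∀ x : Fin 416, ∃ g, φ g 0 = x := fun x => by
    obtain ⟨σ, hσ, e⟩ := exists_from_root orbG_ok x 0
      (by rw [(hlabs x).1.1, hGr]; exact Nat.zero_lt_one) (by rw [(hlabs x).1.1, hGr]; rfl)
    obtain ⟨g, rfl⟩ := hsur σ hσ
    exact ⟨g, e⟩
  set H := (MulAction.stabilizer (Equiv.Perm (Fin 416)) (0 : Fin 416)).comap φ with hHdef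
  have hmemH : ∀ g, g ∈ H ↔ φ g 0 = 0 := fun g => Iff.rfl
  have hHgen : ∀ g ∈ H, φ g ∈ genGroup 9 416 stabGens := fun g hg => stab_eq _ (hmem g) hg
  have hHsur : ∀ σ ∈ genGroup 9 416 g24Gens, σ 0 = 0 → ∃ h : H, φ h = σ := fun σ hσ h0 => by
    obtain ⟨g, rfl⟩ := hsur σ hσ
    exact ⟨⟨g, h0⟩, rfl⟩
  have hHsur' : ∀ σ ∈ genGroup 9 416 stabGens, ∃ h : H, φ h = σ := fun σ hσ => by
    have h : genGroup 9 416 stabGens ≤ H.map φ := (Subgroup.closure_le _).2 fun τ hτ => by
      obtain ⟨e, he, rfl⟩ := List.mem_map.1 hτ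
      obtain ⟨h', hh⟩ := hHsur _ (stabGens_sub he).1 (stabGens_sub he).2
      exact ⟨h', h'.2, hh⟩
    obtain ⟨g, hg, e⟩ := h hσ
    exact ⟨⟨g, hg⟩, e⟩
  have hHco : IsCoatom H := by
    refine isCoatom_stab φ 0 orbH_ok (by rw [hHlen]; norm_num) (by rw [hH0]; rfl) (fun e he => ?_)
      (fun x => ⟨fun _ => by rw [hHlen]; exact (hlabs x).1.2, fun _ => hG0 x⟩) subH_ok
    obtain ⟨h, hh⟩ := hHsur _ (stabGens_sub he).1 (stabGens_sub he).2
    exact ⟨h, hh, h.2⟩
  -- the action of the stabiliser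
  obtain ⟨ψ, hψ⟩ : ∃ ψ : H →* Equiv.Perm (Fin 416), ∀ h : H, ψ h = φ h :=
    ⟨φ.comp H.subtype, fun h => rfl⟩
  have horb : ∀ y x : Fin 416, (∃ h, ψ h y = x) ↔ labOf orbHLab x = labOf orbHLab y := fun y x => by
    rw [← orbit_iff orbH_ok y x (by rw [hHlen]; exact (hlabs y).1.2)]
    refine ⟨fun ⟨h, e⟩ => ⟨φ h, hHgen h h.2, by rw [← hψ]; exact e⟩, fun ⟨σ, hσ, e⟩ => ?_⟩
    obtain ⟨h, rfl⟩ := hHsur' σ hσ
    exact ⟨h, by rw [hψ]; exact e⟩
  have hcA : ∀ y : Fin 416, labOf orbHLab y = 1 →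
      IsCoatom ((MulAction.stabilizer (Equiv.Perm (Fin 416)) y).comap ψ) := fun y hy => by
    let p : Fin 416 := ⟨orbARoots.getD 0 0, (root_spec orbA_ok hAlen).1⟩
    have hp : labOf orbHLab p = 1 := by
      show labOf orbHLab (orbARoots.getD 0 0) = 1
      rw [← hH1]; exact (root_spec orbH_ok (by rw [hHlen]; norm_num)).2
    obtain ⟨h, rfl⟩ := (horb p y).2 (hy.trans hp.symm)
    refine isCoatom_comap_conj ψ h (isCoatom_stab ψ p orbA_ok hAlen rfl (fun e he => ?_) (fun x => ?_)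
      subA_ok)
    · obtain ⟨-, hm, h0, hfix⟩ := two_spec (List.all_eq_true.1 twoA_ok e he) (p := p) rfl
      obtain ⟨k, hk⟩ := hHsur _ hm h0
      exact ⟨k, (hψ k).trans hk, by rw [hψ, hk]; exact hfix⟩
    · rw [horb, hp]
      have h := allBelow_spec _ _ labsA_ok x x.2
      rw [beq_iff_eq, Bool.eq_iff_iff, Nat.blt_eq, Nat.beq_eq] at h
      exact h.symm
  have hcB : ∀ y : Fin 416, labOf orbHLab y = 2 →
      IsCoatom ((MulAction.stabilizer (Equiv.Perm (Fin 416)) y).comap ψ) := fun y hy => by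
    let p : Fin 416 := ⟨orbBRoots.getD 0 0, (root_spec orbB_ok hBlen).1⟩
    have hp : labOf orbHLab p = 2 := by
      show labOf orbHLab (orbBRoots.getD 0 0) = 2
      rw [← hH2]; exact (root_spec orbH_ok (by rw [hHlen]; norm_num)).2
    obtain ⟨h, rfl⟩ := (horb p y).2 (hy.trans hp.symm)
    refine isCoatom_comap_conj ψ h (isCoatom_stab ψ p orbB_ok hBlen rfl (fun e he => ?_) (fun x => ?_)
      subB_ok)
    · obtain ⟨-, hm, h0, hfix⟩ := two_spec (List.all_eq_true.1 twoB_ok e he) (p := p) rfl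
      obtain ⟨k, hk⟩ := hHsur _ hm h0
      exact ⟨k, (hψ k).trans hk, by rw [hψ, hk]; exact hfix⟩
    · rw [horb, hp]
      have h := allBelow_spec _ _ labsB_ok x x.2
      rw [beq_iff_eq, Bool.eq_iff_iff, Nat.blt_eq, Nat.beq_eq] at h
      exact h.symm
  refine ⟨H, hHco, ?_, fun x hx => ?_⟩
  · -- the restriction to the short suborbit
    let R : Subgroup (H × Equiv.Perm (Fin 100)) :=
      ofMulClosed (fun q => ∀ i, ψ q.1 (shortPt i) = shortPt (q.2 i))
        (fun i => by show ψ (1 : H) (shortPt i) = _; rw [map_one]; rfl)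
        fun a b ha hb i => by
          show ψ (a.1 * b.1) (shortPt i) = shortPt (a.2 (b.2 i))
          rw [map_mul, Equiv.Perm.mul_apply, hb, ha]
    have huniq : ∀ π, (1, π) ∈ R → π = 1 := fun π h => by
      ext i
      have hi : ψ (1 : H) (shortPt i) = shortPt (π i) := h i
      rw [map_one] at hi
      rw [shortPt_inj hi.symm]
      rfl
    have hgens : ∀ e ∈ J2.j2Gens, ∃ h, (h, toPerm 7 100 e) ∈ R := by
      intro e he
      obtain ⟨k, hk, rfl⟩ := List.mem_iff_getElem.1 he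
      have h := allBelow_spec _ _ lifts_ok k hk
      simp only [liftTest, Bool.and_eq_true, Nat.beq_eq] at h
      obtain ⟨⟨⟨hv, hs⟩, h0⟩, hi⟩ := h
      obtain ⟨g, hg⟩ := hHsur _ (cert_mem g24_cert hv hs) (toPerm_apply hv h0)
      refine ⟨g, fun i => ?_⟩
      have hv' : validElt 7 100 J2.j2Gens[k] = true := by
        have := J2.cert_ok
        simp only [checkCert, Bool.and_eq_true, List.all_eq_true] at this
        exact this.1.1.1.1.2 _ (List.getElem_mem hk)
      show ψ g (shortPt i) = shortPt (toPerm 7 100 J2.j2Gens[k] i)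
      rw [hψ, hg]
      refine toPerm_apply hv ?_
      have h2 := Nat.eq_of_beq_eq_true (allBelow_spec _ _ hi i i.2)
      rw [List.getD_eq_getElem _ _ hk, ((rep_toPerm hv') i).1] at h2
      exact h2
    have hcardG : Nat.card G = 251596800 := by
      rw [Nat.card_congr eq.toEquiv, cert_card g24_cert, g24_order]
    have hidx : H.index = 416 := by
      rw [hHdef, index_stab, show {x | ∃ k, φ k 0 = x} = Set.univ from Set.eq_univ_of_forall hG0,
        Set.ncard_univ, Nat.card_fin]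
    have hcardH : Nat.card H = 604800 := by
      have := Subgroup.card_mul_index H
      rw [hidx, hcardG] at this
      omega
    obtain ⟨-, ⟨e1⟩⟩ := realise R huniq hgens (by rw [hcardH]; exact J2.card_G100.ge)
    exact ⟨e1.trans J2.j2Equiv.symm⟩
  · have hy0 : φ x 0 ≠ 0 := fun e => hx e
    have heq : (H ⊓ H.map (MulAut.conj x).toMonoidHom).subgroupOf H =
        (MulAction.stabilizer (Equiv.Perm (Fin 416)) (φ x 0)).comap ψ := by
      ext h
      rw [Subgroup.mem_subgroupOf, Subgroup.mem_inf, Subgroup.mem_map]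
      show _ ↔ ψ h (φ x 0) = φ x 0
      rw [hψ]
      constructor
      · rintro ⟨-, k, hk, e⟩
        rw [← e, MulEquiv.toMonoidHom_eq_coe, MonoidHom.coe_coe, MulAut.conj_apply, map_mul, map_mul,
          map_inv, Equiv.Perm.mul_apply, Equiv.Perm.mul_apply, Equiv.Perm.inv_def,
          Equiv.symm_apply_apply, (hmemH k).1 hk]
      · intro hh
        refine ⟨h.2, x⁻¹ * h * x, ?_, ?_⟩
        · rw [hmemH, map_mul, map_mul, map_inv, Equiv.Perm.mul_apply, Equiv.Perm.mul_apply, hh,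
            Equiv.Perm.inv_def, Equiv.symm_apply_apply]
        · rw [MulEquiv.toMonoidHom_eq_coe, MonoidHom.coe_coe, MulAut.conj_apply]; group
    rw [heq]
    have hl := hlabs (φ x 0)
    rcases Nat.lt_or_ge (labOf orbHLab (φ x 0 : ℕ)) 2 with h1 | h1
    · refine hcA _ ?_
      by_contra hne
      exact hy0 (Fin.ext ((hl.2.resolve_left fun h => h (by omega))))
    · exact hcB _ (by have := hl.1.2; omega)

end Cfsg.Agent.G24J2
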