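import Cfsg.Agent.Lib.G24J2.CheckPts
import Cfsg.Agent.Lib.G24J2.CheckSets0
import Cfsg.Agent.Lib.G24J2.CheckSets1

/-! G₂(4) is its coded permutation group on 416 points. -/

set_option autoImplicit false
set_option maxRecDepth 20000
set_option Elab.async false

namespace Cfsg.Agent.G24J2

open Cfsg.Agent.PermCert

theorem g24_light : lightCert 9 416 g24Gens g24Derived g24Levels = true := by decide +kernel

theorem g24_order : certOrder g24Levels = 251596800 := by decide +kernel

theorem g24_valid : validElt 9 416 (g24Gens.getD 0 (0, 0)) = true ∧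
    validElt 9 416 (g24Gens.getD 1 (0, 0)) = true ∧ g24Gens.length = 2 := by decide +kernel

theorem g24_model : checkCert 9 416 g24Gens g24Derived g24Levels = true ∧
    Nonempty (G24.G4 ≃* genGroup 9 416 g24Gens) := by
  obtain ⟨ψ, hψ⟩ := G24.exists_psi
  obtain ⟨hw0, hw1, ht0, ht1, hb0, hb1⟩ := words_ok
  obtain ⟨hv0, hv1, hlen⟩ := g24_valid
  have hword : ∀ (w : List (Fin 12 × ℕ)) (C B p : ℕ) (e : Elt), (∀ q ∈ w, q.2 < 4) →
      G24.evC w = C → G24.trC C = B → validElt 9 416 e = true → all1365 (ptTest B p) = true →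
      setsTest p e.1 g24Masks 0 = true → ∃ g : G24.G4, (g, toPerm 9 416 e) ∈ relSub ψ := by
    intro w C B p e hw hC hB hv hp hs
    obtain ⟨s, hs'⟩ := G24.exists_word w hw
    obtain ⟨g, hg⟩ := hψ s
    refine ⟨g, ?_⟩
    show Maps (ψ g : G24.M6) (toPerm 9 416 e)
    rw [hg, hs', hC]
    exact maps_of_tests hB hv hp masks_length hs
  have hgens : ∀ e ∈ g24Gens, ∃ g, (g, toPerm 9 416 e) ∈ relSub ψ := by
    intro e he
    obtain ⟨i, hi, rfl⟩ := List.mem_iff_getElem.1 he
    rw [← List.getD_eq_getElem _ (0, 0) hi]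
    rw [hlen] at hi
    interval_cases i
    · exact hword _ _ _ _ _ hb0 hw0 ht0 hv0 pt0_ok sets0_ok
    · exact hword _ _ _ _ _ hb1 hw1 ht1 hv1 pt1_ok sets1_ok
  have huniq : ∀ π, (1, π) ∈ relSub ψ → π = 1 := fun π h => by
    have h' : Maps (ψ 1 : G24.M6) π := h
    rw [map_one, Units.val_one] at h'
    exact maps_unique pts_ok anti_ok masks_length h'
  have hle := light_card_le g24_light
  rw [g24_order] at hle
  obtain ⟨hcard, he⟩ := realise (relSub ψ) huniq hgens (by rw [G24.card_G4]; exact hle)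
  exact ⟨checkCert_of_light g24_light (by rw [hcard, G24.card_G4, g24_order]), he⟩

theorem g24_cert : checkCert 9 416 g24Gens g24Derived g24Levels = true := g24_model.1

/-- **The permutation model.** -/
theorem g24_equiv : Nonempty (G24.G4 ≃* genGroup 9 416 g24Gens) := g24_model.2

end Cfsg.Agent.G24J2
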