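import Cfsg.Agent.Lib.Compute.LightCert

/-! A group related to coded permutations by a functional relation is a copy of the coded group. -/

set_option autoImplicit false

namespace Cfsg.Agent.G24J2

open Cfsg.Agent.PermCert

/-- **Realisation.** -/
theorem realise {w n : ℕ} {gens : List Elt} {G : Type*} [Group G] [Finite G]
    (R : Subgroup (G × Equiv.Perm (Fin n))) (huniq : ∀ π, (1, π) ∈ R → π = 1)
    (hgens : ∀ e ∈ gens, ∃ g, (g, toPerm w n e) ∈ R)
    (hcard : Nat.card G ≤ Nat.card (genGroup w n gens)) :
    Nat.card (genGroup w n gens) = Nat.card G ∧ Nonempty (G ≃* genGroup w n gens) := by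
  classical
  let f : R →* G := (MonoidHom.fst _ _).comp R.subtype
  let s : R →* Equiv.Perm (Fin n) := (MonoidHom.snd _ _).comp R.subtype
  have hf : Function.Injective f := (injective_iff_map_eq_one f).2 fun k hk => by
    have h1 : k.1.1 = 1 := hk
    have h2 : k.1 ∈ R := k.2
    rw [show k.1 = (1, k.1.2) from Prod.ext h1 rfl] at h2
    exact Subtype.ext (Prod.ext h1 (huniq _ h2))
  have : Finite R := Finite.of_injective f hf
  have hle : genGroup w n gens ≤ s.range := by
    refine (Subgroup.closure_le _).2 fun σ hσ => ?_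
    obtain ⟨e, he, rfl⟩ := List.mem_map.1 hσ
    obtain ⟨g, hg⟩ := hgens e he
    exact ⟨⟨_, hg⟩, rfl⟩
  have h1 : Nat.card R ≤ Nat.card G := Nat.card_le_card_of_injective f hf
  have h2 : Nat.card (genGroup w n gens) ≤ Nat.card s.range := Subgroup.card_le_of_le hle
  have h3 : Nat.card s.range ≤ Nat.card R :=
    Nat.card_le_card_of_surjective _ s.rangeRestrict_surjective
  have e1 : genGroup w n gens = s.range := Subgroup.eq_of_le_of_card_ge hle (by omega)
  have bf : Function.Bijective f := (Nat.bijective_iff_injective_and_card f).2 ⟨hf, by omega⟩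
  have bs : Function.Bijective s.rangeRestrict :=
    (Nat.bijective_iff_surjective_and_card _).2 ⟨s.rangeRestrict_surjective, by omega⟩
  exact ⟨by omega, ⟨(MulEquiv.ofBijective f bf).symm.trans
    ((MulEquiv.ofBijective s.rangeRestrict bs).trans (MulEquiv.subgroupCongr e1.symm))⟩⟩

/-- The subgroup of a finite group on the elements with a property closed under products. -/
def ofMulClosed {G : Type*} [Group G] [Finite G] (p : G → Prop) (h1 : p 1)
    (hm : ∀ a b, p a → p b → p (a * b)) : Subgroup G where
  carrier := {g | p g}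
  one_mem' := h1
  mul_mem' ha hb := hm _ _ ha hb
  inv_mem' {a} ha := by
    have hpow : ∀ k : ℕ, p (a ^ k) := fun k => by
      induction k with
      | zero => rw [pow_zero]; exact h1
      | succ k ih => rw [pow_succ]; exact hm _ _ ih ha
    have e : a⁻¹ = a ^ (orderOf a - 1) := by
      refine inv_eq_of_mul_eq_one_right ?_
      rw [← pow_succ', Nat.sub_add_cancel (orderOf_pos a), pow_orderOf_eq_one]
    show p a⁻¹
    rw [e]
    exact hpow _

end Cfsg.Agent.G24J2
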