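import Cfsg.Agent.Lib.PrimeGraphG2.G24Model
import Cfsg.Agent.Lib.G24J2.Realise
import Cfsg.Agent.Lib.G24J2.Data

/-! The relation between G₂(4) and the permutations of 416 sets of projective points. -/

set_option autoImplicit false
set_option maxRecDepth 20000

namespace Cfsg.Agent.G24J2

open Matrix Cfsg.Agent.PermCert

/-- The vector of a point. -/
def ptAt (j : ℕ) : ℕ := get 12 g24Pts j

/-- The points are normalised: the index table inverts them up to scalars. -/
def ptsTest (j : ℕ) : Bool :=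
  let v := ptAt j
  !Nat.beq v 0 &&
    allBelow (fun c => Nat.beq c 0 ||
      (Nat.blt (G24.rowMul c v) 4096 && Nat.beq (get 11 g24Idx (G24.rowMul c v)) j)) 4

/-- The image of a point is the listed one. -/
def ptTest (B p j : ℕ) : Bool :=
  let k := get 11 p j
  Nat.blt k 1365 &&
    (let u := G24.mvT B (ptAt j)
     let v := ptAt k
     Nat.beq u (G24.rowMul 1 v) || Nat.beq u (G24.rowMul 2 v) || Nat.beq u (G24.rowMul 3 v))

/-- A test for the numbers below 1365. -/
def all1365 (f : ℕ → Bool) : Bool := allBelow (fun a => allBelow (fun b => f (35 * a + b)) 35) 39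

theorem all1365_spec (f : ℕ → Bool) (h : all1365 f = true) (j : ℕ) (hj : j < 1365) : f j = true := by
  have h2 := allBelow_spec _ _ (allBelow_spec _ _ h (j / 35) (by omega)) (j % 35)
    (Nat.mod_lt _ (by norm_num))
  rwa [show 35 * (j / 35) + j % 35 = j by omega] at h2

/-- The union of the bits `f i`, `i < k`. -/
def orBelow (f : ℕ → ℕ) (k : ℕ) : ℕ := Nat.rec 0 (fun i acc => Nat.lor acc (f i)) k

theorem testBit_orBelow (f : ℕ → ℕ) (b : ℕ) : ∀ k i, i < k → (f i).testBit b = true →
    (orBelow f k).testBit b = true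
  | k + 1, i, hi, h => by
    rw [show orBelow f (k + 1) = orBelow f k ||| f k from rfl, Nat.testBit_or, Bool.or_eq_true]
    rcases Nat.lt_succ_iff_lt_or_eq.mp hi with h1 | h1
    · exact Or.inl (testBit_orBelow f b k i h1 h)
    · exact Or.inr (h1 ▸ h)

/-- One bit of the image of a mask. -/
def imgBit (p m j : ℕ) : ℕ := Nat.shiftLeft (Nat.land (Nat.shiftRight m j) 1) (get 11 p j)

/-- The image of a mask. -/
def imgMask (p m : ℕ) : ℕ :=
  orBelow (fun a => orBelow (fun b => imgBit p m (35 * a + b)) 35) 39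

theorem imgMask_spec (p m j : ℕ) (hj : j < 1365) (h : m.testBit j = true) :
    (imgMask p m).testBit (get 11 p j) = true := by
  refine testBit_orBelow _ _ 39 (j / 35) (by omega) (testBit_orBelow _ _ 35 (j % 35)
    (Nat.mod_lt _ (by norm_num)) ?_)
  rw [show 35 * (j / 35) + j % 35 = j by omega]
  have e : Nat.land (Nat.shiftRight m j) 1 = 1 := by
    show (m >>> j) &&& 1 = 1
    rw [Nat.and_one_is_mod, Nat.shiftRight_eq_div_pow]
    rw [Nat.testBit_eq_decide_div_mod_eq, decide_eq_true_eq] at h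
    exact h
  show (Nat.shiftLeft (Nat.land (Nat.shiftRight m j) 1) (get 11 p j)).testBit _ = true
  rw [e, show Nat.shiftLeft 1 (get 11 p j) = 1 <<< get 11 p j from rfl, Nat.one_shiftLeft,
    Nat.testBit_two_pow_self]

/-- The sets from `i` on go to the listed sets. -/
def setsTest (p code : ℕ) : List ℕ → ℕ → Bool
  | [], _ => true
  | m :: L, i =>
    Nat.beq (imgMask p m) (g24Masks.getD (get 9 code i) 0) && setsTest p code L (i + 1)

theorem setsTest_spec (p code : ℕ) : ∀ (L : List ℕ) (i : ℕ), setsTest p code L i = true →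
    ∀ k (hk : k < L.length), imgMask p L[k] = g24Masks.getD (get 9 code (i + k)) 0
  | [], _, _, k, hk => absurd hk (by simp)
  | m :: L, i, h, k, hk => by
    simp only [setsTest, Bool.and_eq_true, Nat.beq_eq] at h
    cases k with
    | zero => simpa using h.1
    | succ k =>
      have := setsTest_spec p code L (i + 1) h.2 k (by simpa using hk)
      rw [show i + (k + 1) = i + 1 + k by omega]
      simpa using this

/-- No set is contained in another one. -/
def antiTest : List ℕ → Bool
  | [] => true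
  | m :: L => Nat.blt m (2 ^ 1365) &&
      (L.all fun m' => !Nat.beq (Nat.land m m') m && !Nat.beq (Nat.land m m') m') && antiTest L

theorem antiTest_spec : ∀ L : List ℕ, antiTest L = true →
    ∀ i (hi : i < L.length) k (hk : k < L.length),
      L[i] < 2 ^ 1365 ∧ (L[i] &&& L[k] = L[i] → i = k)
  | [], _, i, hi, _, _ => absurd hi (by simp)
  | m :: L, h, i, hi, k, hk => by
    simp only [antiTest, Bool.and_eq_true, Nat.blt_eq, List.all_eq_true, Bool.not_eq_true',
      Bool.eq_false_iff, ne_eq, Nat.beq_eq] at h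
    obtain ⟨⟨hm, hall⟩, hL⟩ := h
    cases i with
    | zero =>
      cases k with
      | zero => exact ⟨hm, fun _ => rfl⟩
      | succ k =>
        exact ⟨hm, fun e => absurd e (hall _ (List.getElem_mem (by simpa using hk))).1⟩
    | succ i =>
      have hi' : i < L.length := by simpa using hi
      refine ⟨(antiTest_spec L hL i hi' i hi').1, fun e => ?_⟩
      cases k with
      | zero =>
        refine absurd ?_ (hall L[i] (List.getElem_mem hi')).2
        show m &&& L[i] = L[i]
        rw [Nat.and_comm]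
        exact e
      | succ k => rw [(antiTest_spec L hL i hi' k (by simpa using hk)).2 e]

/-- The vectors of a set. -/
def ptsOf (i : Fin 416) : Set (Fin 6 → G24.F4) :=
  {u | ∃ j < 1365, (g24Masks.getD i 0).testBit j = true ∧ ∃ c : G24.F4, u = c • G24.dV (ptAt j)}

/-- A matrix maps the sets as a permutation does. -/
def Maps (M : G24.M6) (σ : Equiv.Perm (Fin 416)) : Prop :=
  ∀ i, ∀ u ∈ ptsOf i, M *ᵥ u ∈ ptsOf (σ i)

theorem maps_one : Maps 1 1 := fun i u hu => by rwa [Matrix.one_mulVec]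

theorem maps_mul {M N : G24.M6} {σ τ : Equiv.Perm (Fin 416)} (hM : Maps M σ) (hN : Maps N τ) :
    Maps (M * N) (σ * τ) := fun i u hu => by
  rw [← Matrix.mulVec_mulVec]
  exact hM _ _ (hN i u hu)

theorem dV_rowMul (c v : ℕ) (hc : c < 4) (hv : v < 4096) :
    G24.dV (G24.rowMul c v) = G24.dE c • G24.dV v := funext fun i => G24.dE_rowMul c v hc hv i i.2

theorem dV_inj {a b : ℕ} (ha : a < 4096) (hb : b < 4096) (h : G24.dV a = G24.dV b) : a = b := by
  refine G24.ext_digits 6 a b (by norm_num; exact ha) (by norm_num; exact hb) fun k hk => ?_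
  have e2 : ∀ x y : Fin 4, G24.dE x = G24.dE y → x = y := by decide +kernel
  exact congrArg Fin.val
    (e2 ⟨_, get_lt 2 a k⟩ ⟨_, get_lt 2 b k⟩ (congrFun h ⟨k, hk⟩))

theorem ptAt_lt (j : ℕ) : ptAt j < 4096 := get_lt 12 _ _

/-- **The sets determine the permutation.** -/
theorem maps_unique (hpts : all1365 ptsTest = true) (hanti : antiTest g24Masks = true)
    (hlen : g24Masks.length = 416) {π : Equiv.Perm (Fin 416)} (h : Maps 1 π) : π = 1 := by
  ext i
  have hi : (i : ℕ) < g24Masks.length := by rw [hlen]; exact i.2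
  have hk : (π i : ℕ) < g24Masks.length := by rw [hlen]; exact (π i).2
  obtain ⟨hlt, hinj⟩ := antiTest_spec _ hanti i hi (π i) hk
  refine (congrArg id (hinj ?_)).symm
  refine Nat.eq_of_testBit_eq fun j => ?_
  rw [Nat.testBit_and]
  cases hb : g24Masks[(i : ℕ)].testBit j
  · rfl
  rw [Bool.true_and]
  have hj : j < 1365 := by
    by_contra hj
    rw [Nat.testBit_lt_two_pow (lt_of_lt_of_le hlt (Nat.pow_le_pow_right (by norm_num) (by omega)))] at hb
    exact absurd hb (by decide)
  have hmem : G24.dV (ptAt j) ∈ ptsOf i :=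
    ⟨j, hj, by rwa [List.getD_eq_getElem _ _ hi], 1, (one_smul _ _).symm⟩
  obtain ⟨j', hj', hb', c, hc⟩ := h i _ hmem
  rw [Matrix.one_mulVec] at hc
  rw [List.getD_eq_getElem _ _ hk] at hb'
  have h1 := all1365_spec _ hpts j hj
  have h2 := all1365_spec _ hpts j' hj'
  simp only [ptsTest, Bool.and_eq_true, Bool.not_eq_true', Bool.eq_false_iff, ne_eq, Nat.beq_eq] at h1 h2
  have hE : ∀ x : G24.F4, ∃ k : Fin 4, G24.dE k = x := by decide +kernel
  obtain ⟨k, rfl⟩ := hE c
  rw [← dV_rowMul k _ k.2 (ptAt_lt j')] at hc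
  have hk0 : (k : ℕ) ≠ 0 := fun e => h1.1 (dV_inj (ptAt_lt j) (by norm_num) (by
    rw [hc, e]; rfl))
  have h3 := allBelow_spec _ _ h2.2 k k.2
  simp only [Bool.or_eq_true, Bool.and_eq_true, Nat.beq_eq, Nat.blt_eq] at h3
  obtain ⟨h3, h4⟩ := h3.resolve_left hk0
  have h5 := allBelow_spec _ _ h1.2 1 (by norm_num)
  simp only [Bool.or_eq_true, Bool.and_eq_true, Nat.beq_eq, Nat.blt_eq] at h5
  obtain ⟨-, h5⟩ := h5.resolve_left (by norm_num)
  have e : ptAt j = G24.rowMul k (ptAt j') := dV_inj (ptAt_lt j) h3 hc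
  rw [show G24.rowMul 1 (ptAt j) = ptAt j from rfl, e, h4] at h5
  exact h5 ▸ hb'

/-- The pairs of a group element and the permutation it induces on the sets. -/
def relSub (ψ : G24.G4 →* G24.M6ˣ) : Subgroup (G24.G4 × Equiv.Perm (Fin 416)) :=
  ofMulClosed (fun q => Maps (ψ q.1 : G24.M6) q.2)
    (show Maps (ψ 1 : G24.M6) 1 by rw [map_one, Units.val_one]; exact maps_one)
    fun a b ha hb => show Maps (ψ (a.1 * b.1) : G24.M6) (a.2 * b.2) by
      rw [map_mul, Units.val_mul]; exact maps_mul ha hb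

theorem maps_of_tests {C B p : ℕ} {e : Elt} (hB : G24.trC C = B) (hv : validElt 9 416 e = true)
    (hp : all1365 (ptTest B p) = true) (hlen : g24Masks.length = 416)
    (hs : setsTest p e.1 g24Masks 0 = true) : Maps (G24.dC C) (toPerm 9 416 e) := by
  rintro i _ ⟨j, hj, hb, c, rfl⟩
  have h1 := all1365_spec _ hp j hj
  simp only [ptTest, Bool.and_eq_true, Bool.or_eq_true, Nat.blt_eq, Nat.beq_eq] at h1
  obtain ⟨hk, hu⟩ := h1
  have hi : (i : ℕ) < g24Masks.length := by rw [hlen]; exact i.2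
  rw [List.getD_eq_getElem _ _ hi] at hb
  have h2 := setsTest_spec p e.1 _ 0 hs i hi
  rw [zero_add, ((rep_toPerm hv) i).1] at h2
  refine ⟨get 11 p j, hk, h2 ▸ imgMask_spec p _ j hj hb, ?_⟩
  have hd : G24.dV (G24.mvT B (ptAt j)) = G24.dC C *ᵥ G24.dV (ptAt j) :=
    G24.dV_mv _ B (by rw [← hB, G24.dC_tr]) _
  obtain ⟨a, ha, hu⟩ : ∃ a < 4, G24.mvT B (ptAt j) = G24.rowMul a (ptAt (get 11 p j)) := by
    rcases hu with (hu | hu) | hu
    exacts [⟨1, by norm_num, hu⟩, ⟨2, by norm_num, hu⟩, ⟨3, by norm_num, hu⟩]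
  refine ⟨c * G24.dE a, ?_⟩
  rw [Matrix.mulVec_smul, ← hd, hu, dV_rowMul a _ ha (ptAt_lt _), smul_smul]

end Cfsg.Agent.G24J2
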